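import Mathlib
import Groth.Prelude.Def_W4c2quivmodsheafKron

/-!
# Semistability of Kronecker modules in extreme dimension vectors
-/

set_option autoImplicit false
noncomputable section

universe u v w

open Module

namespace Groth.Agent.Kron

variable {K : Type u} [Field K] {V : Type v} {W : Type w} [AddCommGroup V] [Module K V] [FiniteDimensional K V]
  [AddCommGroup W] [Module K W] [FiniteDimensional K W] {n : ℕ}

/-- The sum map. -/
def sumMap (f : Fin n → (V →ₗ[K] W)) : (Fin n → V) →ₗ[K] W := ∑ j, (f j).comp (LinearMap.proj j)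

/-- The map to the product. -/
def prodMap (f : Fin n → (V →ₗ[K] W)) : V →ₗ[K] (Fin n → W) := LinearMap.pi f

theorem sumMap_apply (f : Fin n → (V →ₗ[K] W)) (v : Fin n → V) : sumMap f v = ∑ j, f j (v j) := by simp [sumMap]

theorem mem_range_sumMap (f : Fin n → (V →ₗ[K] W)) (j : Fin n) (v : V) : f j v ∈ LinearMap.range (sumMap f) :=
  ⟨Pi.single j v, by
    rw [sumMap_apply, Finset.sum_eq_single j (fun i _ hi => by simp [hi]) (by simp)]
    simp⟩

theorem range_sumMap_eq_top {f : Fin n → (V →ₗ[K] W)} (hf : KronMod.IsSemistable f) (hV : 0 < finrank K V) :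
    LinearMap.range (sumMap f) = ⊤ := by
  by_contra h
  have hlt := Submodule.finrank_lt h
  have htop : (⊤ : Submodule K V) ≠ ⊥ := fun e => by
    have := finrank_top K V
    rw [e, finrank_bot] at this
    omega
  have := hf.2 ⊤ (LinearMap.range (sumMap f)) (fun j => Submodule.map_le_iff_le_comap.2 fun v _ => mem_range_sumMap f j v) (fun e => htop e.1) (fun e => h e.2)
  rw [finrank_top] at this
  have := Nat.mul_lt_mul_of_pos_left hlt hV
  rw [mul_comm (finrank K W)] at *
  omega

theorem ker_prodMap_eq_bot {f : Fin n → (V →ₗ[K] W)} (hf : KronMod.IsSemistable f) (hW : 0 < finrank K W) :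
    LinearMap.ker (prodMap f) = ⊥ := by
  by_contra h
  have hne : (⊥ : Submodule K W) ≠ ⊤ := fun e => by
    have := finrank_top K W
    rw [← e, finrank_bot] at this
    omega
  have := hf.2 (LinearMap.ker (prodMap f)) ⊥ (fun j => Submodule.map_le_iff_le_comap.2 fun v hv => by
    simpa [prodMap] using congrFun (show prodMap f v = 0 from hv) j) (fun e => h e.1) (fun e => hne e.2)
  rw [finrank_bot, mul_zero, Nat.le_zero, mul_eq_zero] at this
  rcases this with h' | h'
  · omega
  · exact h (Submodule.finrank_eq_zero.1 h')

theorem not_semistable {f : Fin n → (V →ₗ[K] W)} (hV : 0 < finrank K V) (hW : 0 < finrank K W)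
    (h : n * finrank K V < finrank K W ∨ n * finrank K W < finrank K V) : ¬ KronMod.IsSemistable f := by
  intro hf
  rcases h with h | h
  · have := LinearMap.finrank_range_le (sumMap f)
    rw [range_sumMap_eq_top hf hV, finrank_top, Module.finrank_pi_fintype, Finset.sum_const, Finset.card_univ,
      Fintype.card_fin, smul_eq_mul] at this
    omega
  · have := LinearMap.finrank_le_finrank_of_injective (LinearMap.ker_eq_bot.1 (ker_prodMap_eq_bot hf hW))
    rw [Module.finrank_pi_fintype, Finset.sum_const, Finset.card_univ, Fintype.card_fin, smul_eq_mul] at this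
    omega

theorem semistable_iff_sum {f : Fin n → (V →ₗ[K] W)} (hV : 0 < finrank K V) (hW : finrank K W = n * finrank K V) :
    KronMod.IsSemistable f ↔ Function.Bijective fun v : Fin n → V => ∑ j, f j (v j) := by
  rw [show (fun v : Fin n → V => ∑ j, f j (v j)) = sumMap f from funext fun v => (sumMap_apply f v).symm]
  have hdim : finrank K (Fin n → V) = finrank K W := by
    rw [Module.finrank_pi_fintype, Finset.sum_const, Finset.card_univ, Fintype.card_fin, smul_eq_mul, hW]
  refine ⟨fun hf => ?_, fun hb => ⟨by omega, fun V' W' hsub _ _ => ?_⟩⟩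
  · have hs := LinearMap.range_eq_top.1 (range_sumMap_eq_top hf hV)
    exact ⟨(LinearMap.injective_iff_surjective_of_finrank_eq_finrank hdim).2 hs, hs⟩
  · let g : (Fin n → V') →ₗ[K] W' := ((sumMap f).comp (LinearMap.pi fun j => V'.subtype.comp (LinearMap.proj j))).codRestrict W'
      (fun v => by
        rw [LinearMap.comp_apply, sumMap_apply]
        exact W'.sum_mem fun j _ => hsub j (Submodule.mem_map_of_mem (v j).2))
    have hg : Function.Injective g := fun a b e => funext fun j => Subtype.ext
      (congrFun (hb.1 (congrArg Subtype.val e)) j)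
    have := LinearMap.finrank_le_finrank_of_injective hg
    rw [Module.finrank_pi_fintype, Finset.sum_const, Finset.card_univ, Fintype.card_fin, smul_eq_mul] at this
    rw [hW]
    calc n * finrank K V * finrank K V' = finrank K V * (n * finrank K V') := by ring
      _ ≤ finrank K V * finrank K W' := Nat.mul_le_mul_left _ this

theorem semistable_iff_prod {f : Fin n → (V →ₗ[K] W)} (hW : 0 < finrank K W) (hV : finrank K V = n * finrank K W) :
    KronMod.IsSemistable f ↔ Function.Bijective fun v : V => fun j : Fin n => f j v := by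
  have hdim : finrank K V = finrank K (Fin n → W) := by
    rw [Module.finrank_pi_fintype, Finset.sum_const, Finset.card_univ, Fintype.card_fin, smul_eq_mul, hV]
  refine ⟨fun hf => ?_, fun hb => ⟨by omega, fun V' W' hsub _ _ => ?_⟩⟩
  · have hi : Function.Injective (prodMap f) := LinearMap.ker_eq_bot.1 (ker_prodMap_eq_bot hf hW)
    exact ⟨hi, (LinearMap.injective_iff_surjective_of_finrank_eq_finrank hdim).1 hi⟩
  · let g : V' →ₗ[K] (Fin n → W') := LinearMap.pi fun j => ((f j).comp V'.subtype).codRestrict W' fun v => hsub j (Submodule.mem_map_of_mem v.2)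
    have hg : Function.Injective g := fun a b e => Subtype.ext
      (hb.1 (funext fun j => congrArg Subtype.val (congrFun e j)))
    have := LinearMap.finrank_le_finrank_of_injective hg
    rw [Module.finrank_pi_fintype, Finset.sum_const, Finset.card_univ, Fintype.card_fin, smul_eq_mul] at this
    rw [hV]
    calc finrank K W * finrank K V' ≤ finrank K W * (n * finrank K W') := Nat.mul_le_mul_left _ this
      _ = n * finrank K W * finrank K W' := by ring

theorem semistable_of_comb {f : Fin n → (V →ₗ[K] W)} {k : ℕ} (hk : 1 ≤ k) (hV : finrank K V = k) (hW : finrank K W = k)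
    (z : Fin n → K) (hz : Function.Bijective ((∑ j, z j • f j : V →ₗ[K] W) : V → W)) : KronMod.IsSemistable f := by
  refine ⟨by omega, fun V' W' hsub _ _ => ?_⟩
  let g : V' →ₗ[K] W' := ((∑ j, z j • f j).comp V'.subtype).codRestrict W' fun v => by
    rw [LinearMap.comp_apply, LinearMap.sum_apply]
    exact W'.sum_mem fun j _ => W'.smul_mem _ (hsub j (Submodule.mem_map_of_mem v.2))
  have hg : Function.Injective g := fun a b e => Subtype.ext (hz.1 (congrArg Subtype.val e))
  rw [hV, hW]
  exact Nat.mul_le_mul_left _ (LinearMap.finrank_le_finrank_of_injective hg)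

theorem one_one {f : Fin n → (V →ₗ[K] W)} (hV : finrank K V = 1) (hW : finrank K W = 1) :
    (KronMod.IsSemistable f ↔ f ≠ 0) ∧ (KronMod.IsStable f ↔ f ≠ 0) := by
  have key : f ≠ 0 → KronMod.IsStable f := fun hf => by
    refine ⟨by omega, fun V' W' hsub h0 h1 => ?_⟩
    have a := Submodule.finrank_le V'
    have b := Submodule.finrank_le W'
    rw [hV, hW, one_mul, one_mul]
    by_contra hle
    rw [not_lt] at hle
    rcases Nat.eq_zero_or_pos (finrank K V') with hv | hv
    · exact h0 ⟨Submodule.finrank_eq_zero.1 hv, Submodule.finrank_eq_zero.1 (by omega)⟩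
    · have hVt : V' = ⊤ := Submodule.eq_top_of_finrank_eq (by omega)
      rcases Nat.eq_zero_or_pos (finrank K W') with hw | hw
      · refine hf (funext fun j => LinearMap.ext fun v => ?_)
        have := hsub j (Submodule.mem_map_of_mem (r := v) (hVt ▸ trivial))
        rw [Submodule.finrank_eq_zero.1 hw] at this
        simpa using this
      · exact h1 ⟨hVt, Submodule.eq_top_of_finrank_eq (by omega)⟩
  have nec : KronMod.IsSemistable f → f ≠ 0 := fun hs h => by
    have := range_sumMap_eq_top hs (by omega)
    rw [show sumMap f = 0 from LinearMap.ext fun v => by simp [sumMap_apply, h], LinearMap.range_zero] at this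
    have h2 := finrank_top K W
    rw [← this, finrank_bot] at h2
    omega
  refine ⟨⟨nec, fun hf => ⟨(key hf).1, fun V' W' a b c => ((key hf).2 V' W' a b c).le⟩⟩, ⟨fun hs => nec ⟨hs.1, fun V' W' a b c => (hs.2 V' W' a b c).le⟩, key⟩⟩

end Groth.Agent.Kron

namespace Groth.Agent.Kron

open Module

variable {K : Type u} [Field K] {V : Type v} {W : Type w} [AddCommGroup V] [Module K V] [FiniteDimensional K V]
  [AddCommGroup W] [Module K W] [FiniteDimensional K W] {n : ℕ}

theorem unique_point (hV : 0 < finrank K V) (hW : finrank K W = n * finrank K V) :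
    (∃ f : Fin n → (V →ₗ[K] W), KronMod.IsSemistable f) ∧
      ∀ f f' : Fin n → (V →ₗ[K] W), KronMod.IsSemistable f → KronMod.IsSemistable f' → KronMod.AreIso f f' := by
  classical
  have hdim : finrank K (Fin n → V) = finrank K W := by
    rw [Module.finrank_pi_fintype, Finset.sum_const, Finset.card_univ, Fintype.card_fin, smul_eq_mul, hW]
  let e := LinearEquiv.ofFinrankEq (Fin n → V) W hdim
  have single : ∀ (f : Fin n → (V →ₗ[K] W)) j v, sumMap f (Pi.single j v) = f j v := fun f j v => by
    rw [sumMap_apply, Finset.sum_eq_single j (fun i _ hi => by simp [hi]) (by simp)]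
    simp
  have bij : ∀ f : Fin n → (V →ₗ[K] W), KronMod.IsSemistable f → Function.Bijective (sumMap f) := fun f hf => by
    have := (semistable_iff_sum hV hW).1 hf
    rwa [show (fun v : Fin n → V => ∑ j, f j (v j)) = sumMap f from funext fun v => (sumMap_apply f v).symm] at this
  refine ⟨⟨fun j => e.toLinearMap.comp (LinearMap.single K (fun _ => V) j), (semistable_iff_sum hV hW).2 ?_⟩,
    fun f f' hf hf' => ?_⟩
  · rw [show (fun v : Fin n → V => ∑ j, (e.toLinearMap.comp (LinearMap.single K (fun _ => V) j)) (v j)) = e from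
      funext fun v => by simp [← map_sum, Finset.univ_sum_single]]
    exact e.bijective
  · refine ⟨LinearEquiv.refl K V, (LinearEquiv.ofBijective (sumMap f) (bij f hf)).symm.trans
      (LinearEquiv.ofBijective (sumMap f') (bij f' hf')), fun j => LinearMap.ext fun v => ?_⟩
    simp only [LinearMap.comp_apply, LinearEquiv.coe_coe, LinearEquiv.trans_apply, LinearEquiv.refl_apply]
    rw [← single f j v, ← single f' j v, ← LinearEquiv.ofBijective_apply (sumMap f) (hf := bij f hf),
      LinearEquiv.symm_apply_apply]
    rfl

theorem stable_iff {f : Fin n → (V →ₗ[K] W)} (hV : 0 < finrank K V) (hW : finrank K W = n * finrank K V) :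
    KronMod.IsStable f ↔ (KronMod.IsSemistable f ∧ finrank K V = 1) := by
  refine ⟨fun hs => ⟨⟨hs.1, fun V' W' a b c => (hs.2 V' W' a b c).le⟩, ?_⟩, fun ⟨hss, h1⟩ => ⟨hss.1, fun V' W' hsub hbot htop => ?_⟩⟩
  · by_contra hne
    obtain ⟨v, hv⟩ := Module.finrank_pos_iff_exists_ne_zero.1 hV
    let V' := K ∙ v
    have hd : finrank K V' = 1 := finrank_span_singleton hv
    let W' := ⨆ j, V'.map (f j)
    have hW' : finrank K W' ≤ n := by
      have hle : W' ≤ Submodule.span K (Set.range fun j => f j v) := iSup_le fun j => by
        rw [Submodule.map_span, Set.image_singleton]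
        exact Submodule.span_mono (Set.singleton_subset_iff.2 ⟨j, rfl⟩)
      exact (Submodule.finrank_mono hle).trans ((finrank_range_le_card _).trans (Fintype.card_fin n).le)
    have := hs.2 V' W' (fun j => le_iSup (fun j => V'.map (f j)) j)
      (fun e => hv (Submodule.span_singleton_eq_bot.1 e.1))
      (fun e => by rw [e.1, finrank_top] at hd; omega)
    rw [hd, hW, mul_one] at this
    have := Nat.mul_le_mul_left (finrank K V) hW'
    rw [mul_comm n] at *
    omega
  · have a := Submodule.finrank_le V'
    rw [hW, h1, mul_one, one_mul]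
    rcases Nat.eq_zero_or_pos (finrank K V') with h0 | h0
    · rw [h0, mul_zero]
      exact Nat.pos_of_ne_zero fun e => hbot ⟨Submodule.finrank_eq_zero.1 h0, Submodule.finrank_eq_zero.1 e⟩
    · have hVt : V' = ⊤ := Submodule.eq_top_of_finrank_eq (by omega)
      refine absurd ⟨hVt, top_unique ?_⟩ htop
      rw [← range_sumMap_eq_top hss hV]
      rintro _ ⟨x, rfl⟩
      rw [sumMap_apply]
      exact W'.sum_mem fun j _ => hsub j (Submodule.mem_map_of_mem (r := x j) (hVt ▸ trivial))

end Groth.Agent.Kron
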